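import Mathlib
import Cfsg.Agent.Lib.Exc.E27

/-!
# The group `3³ : S₄` as an explicit semidirect product
-/

set_option autoImplicit false
set_option Elab.async false

namespace CfsgLib.Exc.S4

open DihedralGroup E27

/-- The cyclic shift of the sign patterns. -/
def shK (i : ZMod 3) (k : K4) : K4 :=
  if i = 0 then k else if i = 1 then (k.1 * k.2, k.1) else (k.2, k.1 * k.2)

/-- The action of `S₃` on the four-group. -/
def actKF : DihedralGroup 3 → K4 → K4
  | r i, k => shK i k
  | sr i, k => ((shK i k).1 * (shK i k).2, (shK i k).2)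

theorem actKF_mul : ∀ x y v, actKF (x * y) v = actKF x (actKF y v) := by decide +kernel

theorem actKF_one : ∀ v, actKF 1 v = v := by decide +kernel

theorem actKF_map_mul : ∀ x u v, actKF x (u * v) = actKF x u * actKF x v := by decide +kernel

/-- The action as a homomorphism. -/
def actK : DihedralGroup 3 →* MulAut K4 where
  toFun x :=
    { toFun := actKF x
      invFun := actKF x⁻¹
      left_inv := fun v => by rw [← actKF_mul, inv_mul_cancel, actKF_one]
      right_inv := fun v => by rw [← actKF_mul, mul_inv_cancel, actKF_one]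
      map_mul' := actKF_map_mul x }
  map_one' := MulEquiv.ext actKF_one
  map_mul' x y := MulEquiv.ext (actKF_mul x y)

/-- The group `S₄`. -/
abbrev Q : Type := K4 ⋊[actK] DihedralGroup 3

instance : Fintype Q := Fintype.ofEquiv _ SemidirectProduct.equivProd.symm

instance : DecidableEq Q := fun a b =>
  decidable_of_iff (a.left = b.left ∧ a.right = b.right) SemidirectProduct.ext_iff.symm

/-- The cyclic shift of the coordinates. -/
def shV (i : ZMod 3) (v : V27) : V27 :=
  if i = 0 then v else if i = 1 then (v.2.2, v.1, v.2.1) else (v.2.1, v.2.2, v.1)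

/-- The action of `S₃`. -/
def actD : DihedralGroup 3 → V27 → V27
  | r i, v => shV i v
  | sr i, v => ((shV i v).2.1⁻¹, (shV i v).1⁻¹, (shV i v).2.2⁻¹)

/-- The action of `S₄` as the rotation group of the cube. -/
def actQ (q : Q) (v : V27) : V27 := actF q.left (actD q.right v)

theorem actQ_mul (x y : Q) (v : V27) : actQ (x * y) v = actQ x (actQ y v) := by
  rw [actQ, actQ, actQ, (by decide +kernel : ∀ d k v, actD d (actF k v) = actF (actKF d k) (actD d v)),
    ← actF_mul, ← (by decide +kernel : ∀ d e v, actD (d * e) v = actD d (actD e v))]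
  rfl

theorem actQ_one : ∀ v, actQ 1 v = v := by decide +kernel

theorem actQ_map_mul (x : Q) (u v : V27) : actQ x (u * v) = actQ x u * actQ x v := by
  rw [actQ, (by decide +kernel : ∀ d u v, actD d (u * v) = actD d u * actD d v), actF_map_mul]
  rfl

/-- The action as a homomorphism. -/
def act : Q →* MulAut V27 where
  toFun x :=
    { toFun := actQ x
      invFun := actQ x⁻¹
      left_inv := fun v => by rw [← actQ_mul, inv_mul_cancel, actQ_one]
      right_inv := fun v => by rw [← actQ_mul, mul_inv_cancel, actQ_one]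
      map_mul' := actQ_map_mul x }
  map_one' := MulEquiv.ext actQ_one
  map_mul' x y := MulEquiv.ext (actQ_mul x y)

/-- The group `3³ : S₄`. -/
abbrev W : Type := V27 ⋊[act] Q

instance : Fintype W := Fintype.ofEquiv _ SemidirectProduct.equivProd.symm

instance : DecidableEq W := fun a b =>
  decidable_of_iff (a.left = b.left ∧ a.right = b.right) SemidirectProduct.ext_iff.symm

theorem card_W : Nat.card W = 648 := by
  rw [SemidirectProduct.card, SemidirectProduct.card]; simp [DihedralGroup.card]

/-- A numbering of `3³`. -/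
def iV (v : V27) : ℕ := v.1.toAdd.val + 3 * v.2.1.toAdd.val + 9 * v.2.2.toAdd.val

/-- A numbering of `S₄`. -/
def iQ (q : Q) : ℕ := q.left.1.toAdd.val + 2 * q.left.2.toAdd.val + 4 * match q.right with
  | r i => i.val
  | sr i => 3 + i.val

/-- A numbering of the elements. -/
def idx (w : W) : ℕ := iV w.left + 27 * iQ w.right

/-- Table lookup. -/
def look (T b i : ℕ) : ℕ := Nat.mod (Nat.shiftRight T (Nat.mul b i)) (Nat.pow 2 b)

/-- The multiplication table of `S₄`. -/
def tQ : ℕ := 0x104035250b31487946137358fb5697180225a12a390a69c2327b1aebd2b600c4142d4921cc584e5163dcda5ed5088604a968298e48ca706b9ecadaf4218a7008234292b639afa5ab784a3329c8608c024ad0a6bd8eade968ce12310e51006152169731edb52f594271394c4184405a5487b5ccbd6d49c6504a14b290c708043ad2d78c2536b1cf4256a214e600462a56f684672635ee5a9093988518801bda959ca117b98d52d2831ca410c20b5eb494e3073dac731afb52b794233310a7100235212b7b58ebd6969c61239486184025a50a639eda5af584a71218e500861429696bdccaded48ce5029cc408c404ad488ca136b98fada97088034a90b2988784e3263daea5eb600c2242d2a21ca69c2517b1cdbd2d5180415a149390c594670735ecb56f41046052568314e4a56d784653635cf4254b214c700443ad2f68c2726b1ee4a16a290e608062b5e9594e1173d8d52d0931c8510c01bdab49ca307b9ac5a928398a418820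

/-- The table of the action. -/
def tA : ℕ := 0xcc0f66926a0ea28bb8b458b0f35583924177175145162b349981e6a0d583c3cd24823a43ae55d050c9db622a617e0cca8d32036c4864ea985d72c7485d04ca8df832640ceb108bce835af56b98428e749296908817b55cd61483d671183d07352725a922082307eb3841cce6b2f6a94835a9349c841035ccb5ea428e117e7583a0ca5a67490440cda7abd315941aa8b96f624e40a0a230c17d52d99d7127456d8298f4950221c233022e5c1aa7b13abd3369e2b241447204c30360a7456c7a6d99df54ae244384a810cc075cadb11951c748864efc197412a614c810c9e3a43f066d88eb95951aa615d049902cd25dc5ab07981f51461e69a83458a4906a28cc0f879aee2d9a4ab07458a6a0c92074577d50a81360ab66643858f4d712198106ab3699c818b97abd10513d89c5646182d99b60a21c37d51d159502ae24c7a46606af48b96828b369c1aa39038ac9ec498607359183d6a4ded5d67149c8a41a0e6104108bdae62969ceb16bd67491d0621461102d7ae7589d24d732117a969214674182206b38bdab49ca307b9ac5a928398a418820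

/-- The multiplication table of `3³`. -/
def tV : ℕ := 0xd639495c1f120ca1008e645ab79ca99c698e6a56a7c6032900209907aded2a4f1acb9ac5a93183ca41882041cd7b569396b38525707c5ac704023990419672a671ab56e95a9f1831cd0082641c6524a93c6b35bd96a4c60f735820810731483a4e5ace2f6ac1f16b1ca4ace64106508059c6ad5bce547c60c7352b51907194801071acd6f69527183dcd62d4941cc520c4106b38bdab49c8832840239916ade72a671a6b1ca4ae0f88ca40082641eb7b4a93c6b2c7352b53e30290620810735ed5a4e5ace1cd62d498c1e1008e6410659ca99c6ad5ba92b83e2d638020990719492a4f1acd6f64ad4f8c18e6882041cc520e9396b38bdaab526307b9ac39904194201671ab56f39520f8b58e5256641c6520041c6b35bda549be30639a95a907314831041ace2f6ad2728c1ee6b16a4dab79ca99c69ac7292b83e241942011cc8aded2a4f1acb1cd4ad4f8c06520041320f7b569396b387358b52630794831040839a72a671ab56ea4ae0f8b58e08047320832ca93c6b35bd92b53e30639a0104c838ca4a4e5ace2f6aad498c1ee6b041020e629079c6ad5bce5483e2d6394959cc820ca100b1acd6f69526f8c18e6a56a320e3290020eb38bdab49ca307b9ac5a928398a418820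

/-- The table of inverses. -/
def tI : ℕ := 0x936448ee5091e3e92a418e24e9163c946488fe4b90a39932438ea4f91a3d926408de629ae5997e6895a5c9965398e6c96a609a65797666952619aa5897a679565b992529ee849ca7ea1e759e2819be7aa0e719f6869d277a026e9e6829c27ca16739da7f9b6368b6248ce2a8863089e1e8d62c88e328a6208be26876348ae228c62887e2e8961c83e0e8361885e1681a05812128461086e1a86609822078320b82a158521380e02805e1789e0761d975dcf741ce791e578ddb771da749d3745de77ddd755d6751cc735cb7d9f77d5ff801fe7b5ee7b1f37d1f27f1fd7edea7ade97c1f17bdf97e9f879de8799ca725c8705c06fdb86ddb671dc6715be6f5bc6d5b46cdc470dc26edba6e5b26c5b0629876118b621856258660d936418d651916399263d8c6057e5ed825fd7c6017d5e9a3699a0689a567da16919e6b1af6a5ab6b9a86a9ad69d9a675976659c6599866d955d5785c9765e5735d1775c56c5bd695b5705a96b5b96858d665816459d615896557d5e56d585755a55d5c565565555253d545454e54d505354c5254652d485154a51d442e4bc2d8b02ccad29caa290b82ecb52bcb22b0a62a4a32dcba2d0ae2c4ab294a828898254922849e26c8f2308925c94244a02749a2388b2209624c9027c9c2648d22887358d3340cd328c7310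c12f8d7350d1338cb320c5308bf354d233ccc324c630cc02f4791f076208851fc701cc6d1e87d1dc83218801c4741b8781ec75204841f86f1c86c4110d3ed03430fa4090b3e501428f8401093dcff420f63f9073d4fd418f43f1053cd424e53050d3a4c5414e12f4fd364b5404dd2e4f9354b13c4cd2a4f5344ad3b4c9294951c44d2446d1248d1a4452847d1649d1e455264751448919441214610f48117438e53b8dc398ef374e43b4db3a0f137ce93c8e039cf0378e23acd938cec368e13a8d81a86b1a4671a0661906518c61188601785f1745b1705a1605915c5515854148531444d1304b1404f1384a12448110431084711845104400fc3b0e8390f83d0f0380dc360b02b0a8290a02709825090350d0330c8310c02f0b82d08c220842007c1e0741c06c0d0380c0401103c0a02c0905817054190681804c14048040140301c080180100800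

/-- The table of conjugating elements. -/
def tC : ℕ := 0x3a8d938cea364e33a8d938cda384eb368e13acda384eb388ec360e23b0d8388ec3612c420ff4bd0b40929414fc3fcf64f9023e5413f0f34ed084d4f642d383e5054c8f36c9c26e9b2709ba6c9c26e9b96c5c46e5b1711b96c5c470dbb6c1c36edb070dbb6c0ed444e43c11439cea438e136ce448cde39d26360e14811a3b4db474f0379173a8d82208921cb52d8b42b0ad2acac2b4ab28ca42889a26c992d4b62d0912489028ca428a2e8ba2e87e1f87e2b8ae2b88a2288a25896258c6318c6288a2288d2348d21c8721c1c8721c87e1f87e1e0781e0751d4751bc6f1bc8421084204812047b1ec7b1b06c1b07f2007e1b46e1b0c7320c62f8bf2f4761dc751fc801f8761dc75340d133c6d1b86c529455254651d4b5214c5114a515495194752d4853144529455254651d4b5214c510020180400c01020070140000806010030040801c05000020180400c0102007014000fc451744216845180420fc481386612c631386912c480d83c150391443c15c390d80f024270900c03c0c0a809060120c02d0541805433048060001e06c030180308400775dd5c63a5de405d1e08dd6b75d68751d45a16b5ba375896557d627395f72dcb57e166aa7684e1369dad9e66d82a0a679a49c19e835a19b59b661958119865601805957e1f86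31929565b7ed8f949f2619837bdef60d8961a526017d5e9e95f57a799e65e95971625709c255a285721c6e5b95361f54d4d541bc871475294451db3511b06c1442b8b40f0422d11145c48438ab138a52ac390e43f0fd0e114b72891a12ca20d8360d89924c21264273d82d3f0f30cc902281e2401e090243cc9c0a8870c0ff21c1b06c1b33c60300cf1505418d324a4d231857198c64b05a169291a4c92f45d174bd144511440f1f86f00c7e00ce1048d81d48101875054db02409360780606c0300c1b000000008a0781e22b1ec7b894751d631204818d0842122e1f87e87c6f1be221c8728706c1b1ba6edb9388e3384e238ce170dc4708eb3b0ea3acec3a9b16c9b0364da360d9368d85214951d4b5314a51546510040140301c0801801008000100500c07020060040200144144870d95f1b1294394406d7a2f595000a2360f300036001b006c513621c1b000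

/-- The table of class labels. -/
def tK : ℕ := 0x999888ddd999888ddd999888ddd5b55b55b5b55b55b5555b55b55b888999ddd888999ddd888999dddb55b55b555b55b55b555b55b55b555bbb555bbb555555555555bbb89d89d89d89d89d89d89d89d89d98d98d98d98d98d98d98d98d98dbbb555555555bbb555555555bbb888888888999999999ddddddddd999999999888888888ddddddddd5b5b5555b5b5b5555b5b5b5555bb555b555bb555b555bb555b555b76c6c7c76c7676c6c76c7c7676c7c667cc6767cc677c6c677c667c76cc766c76c776cc76c766c776cc6767c7c667c7c6c677c6c6767c67cc677c67c667cc67c677c667c67c7c6c67c6767c7c67c6c6767c6c776cc7676cc766c7c766c776cc7676c6c776c6c7c766c7c7676c44a44a44a44a44a44a44a44a44a444444aaa444444aaa444444aaa444444444444444444aaaaaaaaa332332221332332221221221110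

/-- The multiplication of the numbers. -/
def mulN (m n : ℕ) : ℕ :=
  Nat.add (look tV 5 (Nat.add (Nat.mul 27 (Nat.mod m 27))
    (look tA 5 (Nat.add (Nat.mul 27 (Nat.div m 27)) (Nat.mod n 27)))))
  (Nat.mul 27 (look tQ 5 (Nat.add (Nat.mul 24 (Nat.div m 27)) (Nat.div n 27))))

/-- A bounded quantifier. -/
def allB (n : ℕ) (f : ℕ → Bool) : Bool := Nat.rec true (fun i b => f i && b) n

theorem allB_spec {n : ℕ} {f : ℕ → Bool} (h : allB n f = true) {i : ℕ} (hi : i < n) :
    f i = true := by
  induction n with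
  | zero => omega
  | succ n ih =>
    obtain ⟨h1, h2⟩ := Bool.and_eq_true_iff.1 h
    rcases Nat.lt_succ_iff_lt_or_eq.1 hi with e | rfl
    exacts [ih h2 e, h1]

theorem iV_lt : ∀ v, iV v < 27 := by decide +kernel

theorem iQ_lt : ∀ q, iQ q < 24 := by decide +kernel

theorem iV_mul : ∀ x y, iV (x * y) = look tV 5 (27 * iV x + iV y) := by decide +kernel

theorem iV_act : ∀ q v, iV (actQ q v) = look tA 5 (27 * iQ q + iV v) := by decide +kernel

theorem iQ_mul : ∀ p q, iQ (p * q) = look tQ 5 (24 * iQ p + iQ q) := by decide +kernel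

theorem idx_mul (u v : W) : idx (u * v) = mulN (idx u) (idx v) := by
  have h : ∀ w, idx w % 27 = iV w.left ∧ idx w / 27 = iQ w.right := fun w => by
    have := iV_lt w.left
    unfold idx; omega
  show _ = look tV 5 (27 * (idx u % 27) + look tA 5 (27 * (idx u / 27) + idx v % 27)) +
    27 * look tQ 5 (24 * (idx u / 27) + idx v / 27)
  rw [(h u).1, (h u).2, (h v).1, (h v).2, ← iV_act, ← iV_mul, ← iQ_mul]
  rfl

theorem idx_lt (w : W) : idx w < 648 := by
  have := iV_lt w.left
  have := iQ_lt w.right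
  unfold idx; omega

/-- An element from its coordinates. -/
def el (x y z : ZMod 3) (k l : ZMod 2) (d : DihedralGroup 3) : W :=
  ⟨(.ofAdd x, .ofAdd y, .ofAdd z), ⟨(.ofAdd k, .ofAdd l), d⟩⟩

/-- The element with a given number. -/
def dec (n : ℕ) : W := el n (n / 3 : ℕ) (n / 9 : ℕ) (n / 27 : ℕ) (n / 54 : ℕ)
  (if n / 108 < 3 then r (n / 108 : ℕ) else sr (n / 108 : ℕ))

theorem dec_idx : ∀ w, dec (idx w) = w := by decide +kernel

theorem idx_dec : ∀ n < 648, idx (dec n) = n := by decide +kernel

theorem idx_inj : Function.Injective idx := fun u v e => by rw [← dec_idx u, e, dec_idx]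

theorem forall_idx {P : ℕ → Prop} (h : ∀ n < 648, P n) (w : W) : P (idx w) := h _ (idx_lt w)

theorem idx_inv (w : W) : idx w⁻¹ = look tI 10 (idx w) := by
  obtain ⟨h1, h2⟩ := forall_idx (by decide +kernel :
    ∀ n < 648, look tI 10 n < 648 ∧ mulN n (look tI 10 n) = 0) w
  rw [← idx_dec _ h1, ← idx_mul] at h2
  rw [inv_eq_of_mul_eq_one_right (idx_inj (a₂ := 1) h2), idx_dec _ h1]

theorem card_filter (P : W → Prop) [DecidablePred P] (P' : ℕ → Prop) [DecidablePred P']
    (h : ∀ w, P w ↔ P' (idx w)) :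
    (Finset.univ.filter P).card = ((Finset.range 648).filter P').card := by
  refine Finset.card_bij (fun w _ => idx w) (fun w hw => ?_) (fun u _ v _ e => idx_inj e)
    fun n hn => ?_
  · exact Finset.mem_filter.2 ⟨Finset.mem_range.2 (idx_lt w), (h w).1 (Finset.mem_filter.1 hw).2⟩
  · obtain ⟨h1, h2⟩ := Finset.mem_filter.1 hn
    have := idx_dec n (Finset.mem_range.1 h1)
    exact ⟨dec n, Finset.mem_filter.2 ⟨Finset.mem_univ _, (h _).2 (this.symm ▸ h2)⟩, this⟩

/-- The class of a number. -/
def clsN (n : ℕ) : Fin 14 := Fin.ofNat 14 (look tK 4 n)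

/-- Class labels: `0` identity, `1, 2, 3` the classes in `3³`, `4, 5` order six, `6, 7` order nine,
`8, 9` order twelve, `10, 11` involutions, `12` order three, `13` order four. -/
def cls (w : W) : Fin 14 := clsN (idx w)

/-- The numbers of the class representatives. -/
def repN (k : Fin 14) : ℕ := [0, 9, 7, 13, 36, 331, 109, 110, 387, 396, 27, 324, 108, 378].getD k 0

/-- Class representatives. -/
def rep (k : Fin 14) : W := dec (repN k)

theorem idx_rep : ∀ k, idx (rep k) = repN k := by decide +kernel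

theorem cls_rep : ∀ k, cls (rep k) = k := by decide +kernel

theorem cls_conj (g w : W) : cls (g * w * g⁻¹) = cls w := by
  have key : ∀ g : W, idx g < 27 ∨ idx g % 27 = 0 → ∀ w, cls (g * w * g⁻¹) = cls w := fun g hg w => by
    have := allB_spec (by decide +kernel : allB 648 (fun m => !decide (m < 27 ∨ m % 27 = 0) ||
      allB 648 fun n => Nat.beq (look tK 4 (mulN m n)) (look tK 4 (mulN n m))) = true) (idx_lt g)
    rw [decide_eq_true hg, Bool.not_true, Bool.false_or] at this
    have := Nat.eq_of_beq_eq_true (allB_spec this (idx_lt (w * g⁻¹)))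
    rw [← idx_mul, ← idx_mul, inv_mul_cancel_right, ← mul_assoc] at this
    rw [cls, clsN, this]; rfl
  obtain ⟨x, q, rfl⟩ : ∃ x q, g = .inl x * .inr q :=
    ⟨_, _, (SemidirectProduct.inl_left_mul_inr_right g).symm⟩
  rw [← key (.inr q) (Or.inr (Nat.add_mul_mod_self_left _ _ _)) w,
    ← key (.inl x) (Or.inl (iV_lt x)) (.inr q * w * _)]
  congr 1
  group

theorem isConj_rep_iff (k : Fin 14) (w : W) : IsConj (rep k) w ↔ cls w = k := by
  refine ⟨fun h => ?_, fun h => ?_⟩
  · obtain ⟨g, rfl⟩ := isConj_iff.1 h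
    rw [cls_conj, cls_rep]
  · obtain ⟨h1, h2⟩ := forall_idx (by decide +kernel : ∀ n < 648, look tC 10 n < 648 ∧
      mulN (look tC 10 n) (repN (clsN n)) = mulN n (look tC 10 n)) w
    rw [← idx_dec _ h1, ← idx_rep, ← idx_mul, ← idx_mul] at h2
    exact isConj_iff.2 ⟨_, by rw [← h, cls, idx_inj h2, mul_inv_cancel_right]⟩

/-- Number of factorisations of a representative. -/
def cnt (k l m : Fin 14) : ℕ :=
  (Finset.univ.filter fun u : W => cls u = k ∧ cls (u⁻¹ * rep m) = l).card

theorem cnt_eq : cnt 1 2 1 = 4 ∧ cnt 1 2 2 = 2 ∧ cnt 10 1 5 = 0 ∧ cnt 10 3 5 = 0 ∧ cnt 10 2 4 = 4 ∧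
    cnt 10 10 2 = 9 ∧ cnt 10 10 6 = 0 ∧ cnt 10 10 5 = 0 := by
  have : ∀ k l m, cnt k l m = ((Finset.range 648).filter fun n =>
      clsN n = k ∧ clsN (mulN (look tI 10 n) (repN m)) = l).card := fun k l m =>
    card_filter _ _ fun w => by rw [cls, cls, idx_mul, idx_inv, idx_rep]
  simp only [this]
  decide +kernel

/-- The orders of the centralizers. -/
def cc (k : Fin 14) : ℕ := [648, 108, 54, 81, 12, 6, 9, 9, 12, 12, 24, 12, 9, 12].getD k 0

theorem card_cent (k : Fin 14) :
    (Finset.univ.filter fun u : W => u * rep k = rep k * u).card = cc k := by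
  rw [card_filter _ (fun n => mulN n (repN k) = mulN (repN k) n) fun w => by
    rw [← idx_inj.eq_iff, idx_mul, idx_mul, idx_rep]]
  revert k
  decide +kernel

theorem right_eq_one_iff : ∀ w : W, w.right = 1 ↔ cls w ≤ 3 := by decide +kernel

theorem cls_eq_zero : ∀ w : W, cls w = 0 → w = 1 := by decide +kernel

theorem cls_inv (w : W) : cls w⁻¹ = cls w := by
  rw [cls, idx_inv]
  exact forall_idx (by decide +kernel : ∀ n < 648, clsN (look tI 10 n) = clsN n) w

theorem cls_invol (w : W) (h : w * w = 1) : cls w = 0 ∨ cls w = 10 ∨ cls w = 11 :=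
  forall_idx (by decide +kernel : ∀ n < 648, mulN n n = 0 → clsN n = 0 ∨ clsN n = 10 ∨ clsN n = 11) w
    (by rw [← idx_mul, h]; rfl)

theorem cent_cls {w u : W} (hw : cls w = 1 ∨ cls w = 2) (h : u * w = w * u) :
    cls u ≠ 6 ∧ cls u ≠ 7 ∧ cls u ≠ 12 := by
  have := allB_spec (by decide +kernel : allB 648 (fun m => !decide (clsN m = 1 ∨ clsN m = 2) ||
    allB 648 fun n => !Nat.beq (mulN n m) (mulN m n) ||
      decide (clsN n ≠ 6 ∧ clsN n ≠ 7 ∧ clsN n ≠ 12)) = true) (idx_lt w)
  rw [decide_eq_true (p := clsN _ = 1 ∨ clsN _ = 2) hw, Bool.not_true, Bool.false_or] at this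
  have := allB_spec this (idx_lt u)
  rw [← idx_mul, h, idx_mul, Nat.beq_refl] at this
  exact of_decide_eq_true this

theorem not_comm_s {u : W} (hu : cls u = 1) : u * rep 11 ≠ rep 11 * u := fun h =>
  forall_idx (by decide +kernel : ∀ n < 648, clsN n = 1 → mulN n (repN 11) ≠ mulN (repN 11) n) u hu
    (by rw [← idx_rep, ← idx_mul, h, idx_mul])

theorem cls_inl : ∀ x y z : ZMod 3, (cls (.inl (.ofAdd x, .ofAdd y, .ofAdd z)) : ℕ) =
    (if x = 0 then 0 else 1) + (if y = 0 then 0 else 1) + if z = 0 then 0 else 1 := by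
  decide +kernel

end CfsgLib.Exc.S4
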